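import Cfsg.Agent.Omega.Quasithin.Row.MTwelve
import Cfsg.Agent.H779.G2.Stmts4

/-!
# S5211, `q = 2`: the Sylow 2-subgroup `GU (F₂)` of `M₁₂` (helper675)

`phi : GU (ZMod 2) →* G12`, with image a Sylow 2-subgroup; `t` and `s` normalise the images of `Q_a` and `Q_b`.
-/

set_option autoImplicit false

namespace Cfsg.Agent.H675.GT

open Equiv Cfsg Cfsg.Agent.CoThreeStd.M12 Cfsg.Agent.H779.G2

/-- the group over `F₂` -/
abbrev U2 : Type := GU (ZMod 2)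

instance : DecidableEq U2 := fun x y =>
  decidable_of_iff (x.a = y.a ∧ x.b = y.b ∧ x.c = y.c ∧ x.d = y.d ∧ x.e = y.e ∧ x.f = y.f) GU.ext_iff.symm

instance : Fintype U2 := Fintype.ofEquiv _ GU.equivProd.symm

/-- a word or nothing -/
def bt (k : ZMod 2) (w : List (Fin 6)) : List (Fin 6) := if k = 0 then [] else w

/-- the word of an element -/
def wd (x : U2) : List (Fin 6) :=
  bt x.a [2, 1, 5, 1, 3, 5, 1, 2] ++ (bt x.b [4] ++ (bt x.c [0, 4] ++ (bt x.d [1, 5, 0, 2, 3, 2, 5] ++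
    (bt x.e [5, 0, 2, 5, 1, 4, 5, 0, 2, 5] ++ bt x.f [1, 4]))))

/-- the tables of the 64 elements -/
def tb : List ℕ := [0xba9876543210, 0x8a4b32597610, 0xab8942375601, 0xa8b496735201, 0x89ab31457062, 0xb4a871953026, 0x98ba50734126, 0x4b8a50379162, 0x359870a4b126, 0x754b30a98162, 0x538941b7a062, 0x57b49183a026, 0x74ab32958601, 0x39a87645b201, 0x47ba56839210, 0x938a52b74610, 0x3a978254b601, 0x7a43b6598201, 0x5b849637a210, 0x58b94273a610, 0x79a3b0458126, 0x34a78095b162, 0x48b5a1739062, 0x9b85a1374026, 0xb59781a43062, 0x8543b1a97026, 0xa38490b75126, 0xa7b940835162, 0x84a3b6957210, 0xb9a782453610, 0x97b5a2834601, 0x4385a6b79201, 0x354786a9b210, 0x7593b2a48610, 0x537492b8a601, 0x5739468ba201, 0x7453b19a8062, 0x3957814ab026, 0x4735a08b9126, 0x9375a0b84162, 0xba4780593126, 0x8a93b0547162, 0xab7491385062, 0xa839417b5026, 0x8953b24a7601, 0xb457869a3201, 0x9835a67b4210, 0x4b75a2389610, 0xb54872a93601,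 0x859b36a47201, 0xa37946b85210, 0xa734928b5610, 0x845b309a7126, 0xb958704a3162, 0x973a518b4062, 0x437a51b89026, 0x3a487159b062, 0x7a9b31548026, 0x5b794038a126, 0x5834907ba162, 0x795b364a8210, 0x3458729ab610, 0x483a527b9601, 0x9b7a56384201]

/-- the table of an element -/
def T (x : U2) : ℕ := tb.getD (x.a.val + 2 * x.b.val + 4 * x.c.val + 8 * x.d.val + 16 * x.e.val + 32 * x.f.val) 0

/-- the generators -/
def gn (i : Fin 6) : U2 :=
  ⟨if i = 0 then 1 else 0, if i = 1 then 1 else 0, if i = 2 then 1 else 0, if i = 3 then 1 else 0,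
    if i = 4 then 1 else 0, if i = 5 then 1 else 0⟩

theorem T_eq : ∀ x : U2, wt (wd x) = T x := by decide +kernel

theorem mul_gn : ∀ (x : U2) (i : Fin 6), mulT (T x) (T (gn i)) = T (x * gn i) := by decide +kernel

/-- the map -/
def ph (x : U2) : G12 := el (wd x)

theorem ph_rep (x : U2) : Rep (ph x : P12) (T x) := by
  rw [← T_eq]
  exact el_rep _

theorem eq_of_rep {x y : G12} {s t : ℕ} (hx : Rep (x : P12) s) (hy : Rep (y : P12) t) (h : s = t) : x = y :=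
  Subtype.ext ((hx.eq_iff hy).2 h)

theorem rep_mul {x y : G12} {s t : ℕ} (hx : Rep (x : P12) s) (hy : Rep (y : P12) t) :
    Rep ((x * y : G12) : P12) (mulT s t) := hx.mul hy

theorem rep_eq {x y : G12} {s t : ℕ} (hx : Rep (x : P12) s) (hy : Rep (y : P12) t) (h : x = y) : s = t :=
  (hx.eq_iff hy).1 (congrArg Subtype.val h)

theorem ph_mul_gn (x : U2) (i : Fin 6) : ph (x * gn i) = ph x * ph (gn i) :=
  eq_of_rep (ph_rep _) (rep_mul (ph_rep _) (ph_rep _)) (mul_gn x i).symm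

theorem ph_one : ph 1 = 1 := by
  show el (wd 1) = 1
  rw [← el_nil]
  exact el_eq (by decide +kernel)

/-- the bit of a generator -/
def gb (k : ZMod 2) (i : Fin 6) : U2 := if k = 0 then 1 else gn i

theorem nf : ∀ x : U2, x = gb x.a 0 * gb x.b 1 * gb x.c 2 * gb x.d 3 * gb x.e 4 * gb x.f 5 := by decide +kernel

theorem ph_mul_gb (x : U2) (k : ZMod 2) (i : Fin 6) : ph (x * gb k i) = ph x * ph (gb k i) := by
  unfold gb
  split
  · rw [mul_one, ph_one, mul_one]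
  · exact ph_mul_gn x i

theorem ph_mul (x y : U2) : ph (x * y) = ph x * ph y := by
  rw [nf y]
  simp only [← mul_assoc, ph_mul_gb]

/-- the homomorphism -/
def phi : U2 →* G12 := MonoidHom.mk' ph ph_mul

theorem phi_rep (x : U2) : Rep (phi x : P12) (T x) := ph_rep x

theorem T_inj : ∀ x : U2, T x = T 1 → x = 1 := by decide +kernel

theorem phi_injective : Function.Injective phi := by
  rw [injective_iff_map_eq_one]
  intro x hx
  apply T_inj
  refine rep_eq (phi_rep x) (phi_rep 1) ?_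
  rw [hx, map_one]

/-! ### the two normalisers -/

/-- an element of order three normalising `Q_a` -/
def t : G12 := el [1, 2, 5, 0, 5, 4, 3, 5, 0, 5]

/-- an involution normalising `Q_b` -/
def s : G12 := el [5, 0, 2, 5]

def tT : ℕ := wt [1, 2, 5, 0, 5, 4, 3, 5, 0, 5]
def sT : ℕ := wt [5, 0, 2, 5]
def tiT : ℕ := wt [5, 0, 5, 3, 4, 5, 0, 5, 2, 1]

theorem t_rep : Rep (t : P12) tT := el_rep _
theorem s_rep : Rep (s : P12) sT := el_rep _

theorem t_inv : t⁻¹ = el [5, 0, 5, 3, 4, 5, 0, 5, 2, 1] := by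
  rw [t, ← el_reverse]
  rfl

theorem s_inv : s⁻¹ = s := by
  rw [s, ← el_reverse]
  exact el_eq (by decide +kernel)

theorem ti_rep : Rep ((t⁻¹ : G12) : P12) tiT := by
  rw [t_inv]
  exact el_rep _

theorem t_three : t ^ 3 = 1 := by
  rw [pow_succ, pow_two, t, ← el_append, ← el_append, ← el_nil]
  exact el_eq (by decide +kernel)

theorem z_eq : ∀ x : U2, x = gn 5 → wt [1, 4] = T x := by decide +kernel

theorem phi_gn5 : phi (gn 5) = Cfsg.Agent.Omega.Quasithin.M12.z :=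
  eq_of_rep (phi_rep _) (el_rep [1, 4]) (z_eq _ rfl).symm

theorem tbl_t : ∀ x : U2, x.a = 0 → ∃ y : U2, y.a = 0 ∧ mulT tT (T x) = mulT (T y) tT := by decide +kernel

theorem tbl_s : ∀ x : U2, x.b = 0 → ∃ y : U2, y.b = 0 ∧ mulT sT (T x) = mulT (T y) sT := by decide +kernel

/-- `t` normalises `Q_a` -/
theorem t_norm {x : U2} (hx : x.a = 0) : ∃ y : U2, y.a = 0 ∧ phi y = t * phi x * t⁻¹ := by
  obtain ⟨y, hy, h⟩ := tbl_t x hx
  refine ⟨y, hy, ?_⟩
  rw [eq_mul_inv_iff_mul_eq]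
  exact (eq_of_rep (rep_mul t_rep (phi_rep x)) (rep_mul (phi_rep y) t_rep) h).symm

/-- `s` normalises `Q_b` -/
theorem s_norm {x : U2} (hx : x.b = 0) : ∃ y : U2, y.b = 0 ∧ phi y = s * phi x * s⁻¹ := by
  obtain ⟨y, hy, h⟩ := tbl_s x hx
  refine ⟨y, hy, ?_⟩
  rw [eq_mul_inv_iff_mul_eq]
  exact (eq_of_rep (rep_mul s_rep (phi_rep x)) (rep_mul (phi_rep y) s_rep) h).symm

theorem tbl_fix : ∀ x : U2, x.a = 0 → mulT tT (T x) = mulT (T x) tT → x.b = 0 ∧ x.c = 0 ∧ x.d = 0 ∧ x.e = 0 := by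
  decide +kernel

/-- `t` acts fixed point freely on `Q_a / Z₁` -/
theorem t_fix {x : U2} (hx : x.a = 0) (h : phi x = t * phi x * t⁻¹) : x.b = 0 ∧ x.c = 0 ∧ x.d = 0 ∧ x.e = 0 := by
  rw [eq_mul_inv_iff_mul_eq] at h
  exact tbl_fix x hx (rep_eq (rep_mul t_rep (phi_rep x)) (rep_mul (phi_rep x) t_rep) h.symm)

theorem tbl_nt : ∀ h : U2, ∃ q : U2, q.a = 0 ∧
    mulT (mulT (mulT tT (T (gn 0))) (mulT tiT (T q))) (mulT (mulT tT (T (gn 0))) (mulT tiT (T h))) ≠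
      mulT (T h) (T q) := by
  decide +kernel

theorem gn_sq : ∀ i : Fin 6, gn i * gn i = 1 := by decide +kernel

/-- `t` does not normalise `Aut_S(Q_a)` -/
theorem t_not (h : U2) : ∃ q : U2, q.a = 0 ∧
    (t * phi (gn 0) * t⁻¹) * phi q * (t * phi (gn 0) * t⁻¹)⁻¹ ≠ phi h * phi q * (phi h)⁻¹ := by
  obtain ⟨q, hq, hne⟩ := tbl_nt h
  refine ⟨q, hq, fun he => hne ?_⟩
  have h0 : (phi (gn 0))⁻¹ = phi (gn 0) := by
    rw [← map_inv, inv_eq_of_mul_eq_one_left (gn_sq 0)]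
  have h1 : (t * phi (gn 0) * t⁻¹)⁻¹ = t * phi (gn 0) * t⁻¹ := by
    rw [mul_inv_rev, mul_inv_rev, inv_inv, h0, mul_assoc]
  rw [h1, eq_mul_inv_iff_mul_eq] at he
  refine rep_eq (rep_mul (rep_mul (rep_mul t_rep (phi_rep (gn 0))) (rep_mul ti_rep (phi_rep q)))
    (rep_mul (rep_mul t_rep (phi_rep (gn 0))) (rep_mul ti_rep (phi_rep h)))) (rep_mul (phi_rep h) (phi_rep q)) ?_
  rw [← he]
  group

theorem tbl_ns : ∀ h : U2, ∃ q : U2, q.b = 0 ∧
    mulT (mulT (mulT sT (T (gn 1))) (mulT sT (T q))) (mulT (mulT sT (T (gn 1))) (mulT sT (T h))) ≠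
      mulT (T h) (T q) := by
  decide +kernel

/-- `s` does not normalise `Aut_S(Q_b)` -/
theorem s_not (h : U2) : ∃ q : U2, q.b = 0 ∧
    (s * phi (gn 1) * s⁻¹) * phi q * (s * phi (gn 1) * s⁻¹)⁻¹ ≠ phi h * phi q * (phi h)⁻¹ := by
  obtain ⟨q, hq, hne⟩ := tbl_ns h
  refine ⟨q, hq, fun he => hne ?_⟩
  have h0 : (phi (gn 1))⁻¹ = phi (gn 1) := by
    rw [← map_inv, inv_eq_of_mul_eq_one_left (gn_sq 1)]
  have h1 : (s * phi (gn 1) * s⁻¹)⁻¹ = s * phi (gn 1) * s := by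
    rw [mul_inv_rev, mul_inv_rev, inv_inv, h0, s_inv, mul_assoc]
  rw [h1, s_inv, eq_mul_inv_iff_mul_eq] at he
  refine rep_eq (rep_mul (rep_mul (rep_mul s_rep (phi_rep (gn 1))) (rep_mul s_rep (phi_rep q)))
    (rep_mul (rep_mul s_rep (phi_rep (gn 1))) (rep_mul s_rep (phi_rep h)))) (rep_mul (phi_rep h) (phi_rep q)) ?_
  rw [← he]
  group

/-! ### the walk `x₆ → x₅ → x₄x₆ → outside Q_a` -/

theorem tbl_walk : mulT sT (T (gn 5)) = mulT (T (gn 4)) sT ∧ mulT tT (T (gn 4)) = mulT (T (gn 3 * gn 5)) tT ∧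
    ∃ y : U2, y.a ≠ 0 ∧ y.b = 0 ∧ mulT sT (T (gn 3 * gn 5)) = mulT (T y) sT := by
  decide +kernel

theorem walk1 : phi (gn 4) = s * phi (gn 5) * s⁻¹ := by
  rw [eq_mul_inv_iff_mul_eq]
  exact (eq_of_rep (rep_mul s_rep (phi_rep _)) (rep_mul (phi_rep _) s_rep) tbl_walk.1).symm

theorem walk2 : phi (gn 3 * gn 5) = t * phi (gn 4) * t⁻¹ := by
  rw [eq_mul_inv_iff_mul_eq]
  exact (eq_of_rep (rep_mul t_rep (phi_rep _)) (rep_mul (phi_rep _) t_rep) tbl_walk.2.1).symm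

theorem walk3 : ∃ y : U2, y.a ≠ 0 ∧ y.b = 0 ∧ phi y = s * phi (gn 3 * gn 5) * s⁻¹ := by
  obtain ⟨y, hy, hb, h⟩ := tbl_walk.2.2
  refine ⟨y, hy, hb, ?_⟩
  rw [eq_mul_inv_iff_mul_eq]
  exact (eq_of_rep (rep_mul s_rep (phi_rep _)) (rep_mul (phi_rep _) s_rep) h).symm

/-! ### centres -/

theorem cent_Qa : ∀ x : U2, (∀ i : Fin 6, i ≠ 0 → x * gn i = gn i * x) → x = 1 ∨ x = gn 5 := by decide +kernel

end Cfsg.Agent.H675.GT
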