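import Cfsg.Agent.H675.GT.MTwHom
import Cfsg.Agent.H815.P4.Pull
import Cfsg.Agent.H777.PGrp
import Cfsg.Agent.H759.FusNormal
import Cfsg.Agent.MTwelveType.SylowModel

/-!
# S5211, `q = 2`: the fusion system of `M₁₂` (`StRM12`, helper675)
-/

set_option autoImplicit false
set_option linter.unusedSectionVars false

namespace Cfsg.Agent.H675.GT

open Cfsg Cfsg.FusionSystem Cfsg.Agent.CoThreeStd.M12 Cfsg.Agent.H779.G2
open Cfsg.Agent.H756.PU (NormAut AF)

universe u

/-! ### generalities -/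

section gen
variable {P : Type*} [Group P]

/-- an element normalising the image of `Q` gives an automorphism of `Q` -/
theorem exists_aut [Finite P] {G : Type*} [Group G] {φ : P →* G} (hinj : Function.Injective φ) (Q : Subgroup P) (g : G)
    (h : ∀ x ∈ Q, ∃ y ∈ Q, φ y = g * φ x * g⁻¹) :
    ∃ γ : MulAut Q, ∀ e : Q, φ ((γ e : Q) : P) = g * φ (e : P) * g⁻¹ := by
  choose! f hf hfe using h
  let k : Q →* Q := MonoidHom.mk' (fun x => ⟨f x, hf x x.2⟩) (by
    intro x y
    apply Subtype.ext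
    apply hinj
    show φ (f (x * y : Q)) = φ (f x * f y)
    rw [map_mul, hfe _ (x * y).2, hfe _ x.2, hfe _ y.2, Subgroup.coe_mul, map_mul]
    group)
  have hk : Function.Injective k := by
    intro x y hxy
    have h1 : f x = f y := congrArg Subtype.val hxy
    have h2 := hfe _ x.2
    rw [h1, hfe _ y.2] at h2
    exact Subtype.ext (hinj (mul_left_cancel (mul_right_cancel h2))).symm
  refine ⟨MulEquiv.ofBijective k (Finite.injective_iff_bijective.1 hk), fun e => ?_⟩
  exact hfe _ e.2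

/-- a criterion for not normalising `Aut_S(Q)` -/
theorem not_normAut [Finite P] {G : Type*} [Group G] {φ : P →* G} {Q : Subgroup P}
    {γ : MulAut Q} {g : G} (hγ : ∀ e : Q, φ ((γ e : Q) : P) = g * φ (e : P) * g⁻¹) (v : P)
    (hv : ∀ x ∈ Q, v * x * v⁻¹ ∈ Q)
    (hne : ∀ h : P, ∃ q ∈ Q, (g * φ v * g⁻¹) * φ q * (g * φ v * g⁻¹)⁻¹ ≠ φ h * φ q * (φ h)⁻¹) :
    ¬ NormAut (⊤ : Subgroup P) γ := by
  intro hN
  obtain ⟨x, hx⟩ := exists_aut (φ := MonoidHom.id P) (fun _ _ h => h) Q v (fun x hx => ⟨_, hv x hx, rfl⟩)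
  have hx' : x ∈ autInducedBy (⊤ : Subgroup P) Q := Subgroup.subset_closure ⟨v, trivial, fun e => hx e⟩
  obtain ⟨h, -, hh⟩ := (H802.mem_autInducedBy_iff _ _ _).1 (hN x hx')
  obtain ⟨q, hq, hqn⟩ := hne h
  apply hqn
  have h1 := hh ⟨q, hq⟩
  have h2 : φ (((γ * x * γ⁻¹ : MulAut Q) ⟨q, hq⟩ : Q) : P) = φ h * φ q * (φ h)⁻¹ := by
    rw [h1, map_mul, map_mul, map_inv]
  rw [← h2]
  have h3 : (γ * x * γ⁻¹ : MulAut Q) ⟨q, hq⟩ = γ (x (γ⁻¹ ⟨q, hq⟩)) := rfl
  have h4 : φ ((γ⁻¹ ⟨q, hq⟩ : Q) : P) = g⁻¹ * φ q * g := by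
    have h5 := hγ (γ⁻¹ ⟨q, hq⟩)
    rw [MulAut.apply_inv_self] at h5
    rw [show φ q = _ from h5]
    group
  have h6 : φ ((x (γ⁻¹ ⟨q, hq⟩) : Q) : P) = φ v * φ ((γ⁻¹ ⟨q, hq⟩ : Q) : P) * (φ v)⁻¹ := by
    have h7 := hx (γ⁻¹ ⟨q, hq⟩)
    change ((x (γ⁻¹ ⟨q, hq⟩) : Q) : P) = v * _ * v⁻¹ at h7
    rw [h7, map_mul, map_mul, map_inv]
    rfl
  rw [h3, hγ, h6, h4]
  group

/-- if a normal subgroup of `F` and `Q` generate `S` then `Aut_F(Q)` normalises `Aut_S(Q)` -/
theorem normAut_of_normal {F : FusionSystem (⊤ : Subgroup P)} {N Q : Subgroup P} (hN : F.IsNormal N)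
    (hs : Q ⊔ N = ⊤) {γ : MulAut Q} (hγ : γ ∈ F.autGroup Q) : NormAut (⊤ : Subgroup P) γ := by
  obtain ⟨ψ, hψ, h1, -⟩ := hN.2 Q _ ((H802.mem_autGroup_iff F le_top γ).1 hγ)
  have h1' : ∀ (x : P) (hx : x ∈ Q) (hx' : x ∈ Q ⊔ N), ψ ⟨x, hx'⟩ = ((γ ⟨x, hx⟩ : Q) : P) := fun x hx hx' => h1 ⟨x, hx⟩
  have ht : ∀ x : P, x ∈ Q ⊔ N := fun x => by rw [hs]; trivial
  intro x hx
  obtain ⟨g, -, hg⟩ := (H802.mem_autInducedBy_iff _ _ _).1 hx
  refine Subgroup.subset_closure ⟨ψ ⟨g, ht g⟩, trivial, fun e => ?_⟩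
  have h2 : (γ * x * γ⁻¹ : MulAut Q) e = γ (x (γ⁻¹ e)) := rfl
  have h3 := h1' ((x (γ⁻¹ e) : Q) : P) (x (γ⁻¹ e)).2 (ht _)
  have h4 : ((γ ((γ⁻¹ e) : Q) : Q) : P) = e := by rw [MulAut.apply_inv_self]
  have h5 := h1' ((γ⁻¹ e : Q) : P) (γ⁻¹ e).2 (ht _)
  rw [h2, ← h3]
  have h6 : (⟨((x (γ⁻¹ e) : Q) : P), ht _⟩ : ↥(Q ⊔ N)) = ⟨g, ht g⟩ * ⟨((γ⁻¹ e : Q) : P), ht _⟩ * ⟨g, ht g⟩⁻¹ :=
    Subtype.ext (hg _)
  rw [h6, map_mul, map_mul, map_inv, h5, h4]

end gen

/-! ### the field -/

theorem exists_equiv {K : Type u} [Field K] (h : HypG K 2 1) : Nonempty (K ≃+* ZMod 2) := by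
  have := h.fin
  have := h.char
  have := Fintype.ofFinite K
  have hc : Fintype.card K = 2 := by
    rw [← Nat.card_eq_fintype_card, h.card]
    rfl
  exact ⟨(ZMod.ringEquiv K hc).symm⟩

/-- functoriality -/
def mapG {K L : Type*} [Field K] [Field L] (e : K ≃+* L) : GU K ≃* GU L where
  toFun x := ⟨e x.a, e x.b, e x.c, e x.d, e x.e, e x.f⟩
  invFun x := ⟨e.symm x.a, e.symm x.b, e.symm x.c, e.symm x.d, e.symm x.e, e.symm x.f⟩
  left_inv x := by ext <;> simp
  right_inv x := by ext <;> simp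
  map_mul' x y := by
    have h2 : e 2 = 2 := map_ofNat e 2
    have h3 : e 3 = 3 := map_ofNat e 3
    have h6 : e 6 = 6 := map_ofNat e 6
    ext <;> simp [h2, h3, h6]

theorem h01 : ∀ k l : ZMod 2, k ≠ 0 → l ≠ 0 → k + -l = 0 := by decide

/-! ### the main part -/

section main
variable {K : Type u} [Field K] [Finite K] (e : K ≃+* ZMod 2)

/-- the homomorphism on `GU K` -/
def ps : GU K →* G12 := phi.comp (mapG e).toMonoidHom

theorem ps_apply (x : GU K) : ps e x = phi (mapG e x) := rfl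

theorem ps_injective : Function.Injective (ps e) := phi_injective.comp (mapG e).injective

theorem mapG_a (x : GU K) : (mapG e x).a = e x.a := rfl
theorem mapG_b (x : GU K) : (mapG e x).b = e x.b := rfl

theorem map_zero_iff (k : K) : e k = 0 ↔ k = 0 := map_eq_zero_iff e e.injective

theorem mem_Qa (x : GU K) : x ∈ Qa K ↔ (mapG e x).a = 0 := by
  rw [mapG_a, map_zero_iff]
  rfl

theorem mem_Qb (x : GU K) : x ∈ Qb K ↔ (mapG e x).b = 0 := by
  rw [mapG_b, map_zero_iff]
  rfl

/-- lifting -/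
theorem lift (y : U2) : mapG e ((mapG e).symm y) = y := (mapG e).apply_symm_apply y

theorem t_normK (x : GU K) (hx : x ∈ Qa K) : ∃ y ∈ Qa K, ps e y = t * ps e x * t⁻¹ := by
  obtain ⟨y, hy, h⟩ := t_norm ((mem_Qa e x).1 hx)
  refine ⟨(mapG e).symm y, (mem_Qa e _).2 (by rw [lift]; exact hy), ?_⟩
  rw [ps_apply, lift]
  exact h

theorem s_normK (x : GU K) (hx : x ∈ Qb K) : ∃ y ∈ Qb K, ps e y = s * ps e x * s⁻¹ := by
  obtain ⟨y, hy, h⟩ := s_norm ((mem_Qb e x).1 hx)
  refine ⟨(mapG e).symm y, (mem_Qb e _).2 (by rw [lift]; exact hy), ?_⟩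
  rw [ps_apply, lift]
  exact h

include e in
theorem card_GU : Nat.card (GU K) = 64 := by
  rw [GU.card_eq, Nat.card_congr e.toEquiv, Nat.card_zmod]
  norm_num

theorem card_g12 : Nat.card G12 = 95040 := by
  rw [← Nat.card_congr CoThreeStd.M12.equiv.toEquiv]
  exact MTwelveType.SylowModel.card_M12

theorem index_ps : ¬ 2 ∣ (ps e).range.index := by
  have h1 := (ps e).range.card_mul_index
  have h2 : Nat.card (ps e).range = 64 := by
    rw [← Nat.card_congr (MonoidHom.ofInjective (ps_injective e)).toEquiv]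
    exact card_GU e
  rw [h2, card_g12] at h1
  omega

include e in
theorem isPGroup_GU : IsPGroup 2 (GU K) := IsPGroup.of_card (n := 6) (card_GU e)

instance normal_Qa : (Qa K).Normal := ⟨fun x hx g => by
  have hx' : x.a = 0 := hx
  show (g * x * g⁻¹).a = 0
  simp [hx']⟩

instance normal_Qb : (Qb K).Normal := ⟨fun x hx g => by
  have hx' : x.b = 0 := hx
  show (g * x * g⁻¹).b = 0
  simp [hx']⟩

/-- the elements of `S` centralising `Q_a` -/
theorem cent_QaK (x : GU K) (h : ∀ y ∈ Qa K, x * y = y * x) : mapG e x = 1 ∨ mapG e x = gn 5 := by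
  apply cent_Qa
  intro i hi
  have h1 := h ((mapG e).symm (gn i)) ((mem_Qa e _).2 (by rw [lift]; simp [gn, hi]))
  have h2 := congrArg (mapG e) h1
  rwa [map_mul, map_mul, lift] at h2

theorem gn5_central : ∀ x : U2, gn 5 * x = x * gn 5 := by decide +kernel
theorem gn5_ne : gn 5 ≠ 1 := by decide +kernel
theorem gn5_a : (gn 5).a = 0 ∧ (gn 5).b = 0 := by decide +kernel
theorem gn4_a : (gn 4).a = 0 ∧ (gn 4).b = 0 := by decide +kernel
theorem gn35_a : (gn 3 * gn 5).a = 0 ∧ (gn 3 * gn 5).b = 0 := by decide +kernel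

/-- an element of `G12` inducing an automorphism of `Q_a` centralises `z` -/
theorem comm_z {γ : MulAut (Qa K)} {g : G12} (h : ∀ x : Qa K, ps e ((γ x : Qa K) : GU K) = g * ps e x * g⁻¹) :
    g * Omega.Quasithin.M12.z = Omega.Quasithin.M12.z * g := by
  let w : Qa K := ⟨(mapG e).symm (gn 5), (mem_Qa e _).2 (by rw [lift]; exact gn5_a.1)⟩
  have hw : mapG e (w : GU K) = gn 5 := lift e _
  have hwc : ∀ y : Qa K, w * y = y * w := by
    intro y
    apply Subtype.ext
    apply (mapG e).injective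
    rw [Subgroup.coe_mul, Subgroup.coe_mul, map_mul, map_mul, hw]
    exact gn5_central _
  have h1 : mapG e ((γ w : Qa K) : GU K) = 1 ∨ mapG e ((γ w : Qa K) : GU K) = gn 5 := by
    apply cent_QaK
    intro y hy
    have h2 := hwc (γ⁻¹ ⟨y, hy⟩)
    have h3 := congrArg γ h2
    rw [map_mul, map_mul, MulAut.apply_inv_self] at h3
    exact congrArg Subtype.val h3
  have h4 : mapG e ((γ w : Qa K) : GU K) = gn 5 := by
    rcases h1 with h1 | h1
    · exfalso
      have h5 : γ w = 1 := Subtype.ext ((mapG e).injective (by rw [h1]; exact (map_one _).symm))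
      have h6 : w = 1 := γ.injective (by rw [h5, map_one])
      rw [h6] at hw
      apply gn5_ne
      rw [← hw]
      exact map_one _
    · exact h1
  have h7 := h w
  rw [ps_apply, ps_apply, h4, hw, phi_gn5] at h7
  rw [eq_mul_inv_iff_mul_eq] at h7
  exact h7.symm

/-- an upper bound for `|Aut_F(Q_a)|` -/
theorem card_le (A : Subgroup (MulAut (Qa K)))
    (hA : ∀ γ ∈ A, ∃ g : G12, ∀ x : Qa K, ps e ((γ x : Qa K) : GU K) = g * ps e x * g⁻¹) : Nat.card A ≤ 96 := by
  have hC : Nat.card (Subgroup.centralizer ({Omega.Quasithin.M12.z} : Set G12)) = 192 := by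
    have h3 := Subgroup.card_mul_index (Subgroup.centralizer ({Omega.Quasithin.M12.z} : Set G12))
    rw [Omega.Quasithin.M12.index_eq, card_g12] at h3
    exact Nat.eq_of_mul_eq_mul_right (by norm_num : 0 < 495) (h3.trans (by norm_num))
  choose! g hg using hA
  have hz : Omega.Quasithin.M12.z * Omega.Quasithin.M12.z = 1 := Omega.Quasithin.M12.zz
  let f : A × Bool → Subgroup.centralizer ({Omega.Quasithin.M12.z} : Set G12) := fun x =>
    ⟨g x.1 * (if x.2 then Omega.Quasithin.M12.z else 1), by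
      rw [Subgroup.mem_centralizer_singleton_iff]
      have h1 := comm_z e (hg _ x.1.2)
      split
      · rw [mul_assoc, hz, ← mul_assoc, ← h1, mul_assoc, hz]
      · rw [mul_one]
        exact h1⟩
  have hf : Function.Injective f := by
    rintro ⟨γ, i⟩ ⟨δ, j⟩ h
    have h1 : g γ * (if i then Omega.Quasithin.M12.z else 1) = g δ * (if j then Omega.Quasithin.M12.z else 1) :=
      congrArg Subtype.val h
    have hcz : ∀ x : Qa K, ∀ k : Bool, (if k then Omega.Quasithin.M12.z else 1) * ps e x *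
        (if k then Omega.Quasithin.M12.z else (1 : G12))⁻¹ = ps e x := by
      intro x k
      have h2 : Omega.Quasithin.M12.z * ps e x = ps e x * Omega.Quasithin.M12.z := by
        rw [← phi_gn5, ps_apply, ← map_mul, ← map_mul, gn5_central]
      split
      · rw [h2, mul_assoc, mul_inv_cancel, mul_one]
      · rw [one_mul, inv_one, mul_one]
    have key : ∀ (x : Qa K) (u : G12) (k : Bool), (u * (if k then Omega.Quasithin.M12.z else 1)) * ps e x *
        (u * (if k then Omega.Quasithin.M12.z else (1 : G12)))⁻¹ = u * ps e x * u⁻¹ := by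
      intro x u k
      have h2 := hcz x k
      calc (u * (if k then Omega.Quasithin.M12.z else 1)) * ps e x *
        (u * (if k then Omega.Quasithin.M12.z else (1 : G12)))⁻¹ =
          u * ((if k then Omega.Quasithin.M12.z else 1) * ps e x *
            (if k then Omega.Quasithin.M12.z else (1 : G12))⁻¹) * u⁻¹ := by group
        _ = u * ps e x * u⁻¹ := by rw [h2]
    have hγδ : γ = δ := by
      apply Subtype.ext
      refine MulEquiv.ext fun x => Subtype.ext (ps_injective e ?_)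
      rw [hg _ γ.2, hg _ δ.2, ← key x _ i, ← key x (g δ) j, h1]
    subst hγδ
    have h3 := mul_left_cancel h1
    have hzne := Omega.Quasithin.M12.z_ne
    have h4 : i = j := by
      cases i <;> cases j <;> simp at h3 ⊢
      · exact hzne h3.symm
      · exact hzne h3
    rw [h4]
  have h1 := Nat.card_le_card_of_injective f hf
  rw [hC, Nat.card_prod, Nat.card_eq_fintype_card (α := Bool), Fintype.card_bool] at h1
  omega

include e in
/-- a lower bound -/
theorem dvd_card (A : Subgroup (MulAut (Qa K))) (hA : autInducedBy (⊤ : Subgroup (GU K)) (Qa K) ≤ A)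
    {γ : MulAut (Qa K)} (hγ : γ ∈ A) (h3 : orderOf γ = 3) : 96 ∣ Nat.card A := by
  let c : GU K →* MulAut (Qa K) := MulAut.conjNormal
  have hcr : c.range ≤ A := by
    rintro _ ⟨g, rfl⟩
    exact hA (Subgroup.subset_closure ⟨g, trivial, fun x => rfl⟩)
  have hker : Nat.card c.ker ≤ 2 := by
    have h1 : Function.Injective (fun x : c.ker => decide (mapG e (x : GU K) = 1)) := by
      have h2 : ∀ x : c.ker, mapG e (x : GU K) = 1 ∨ mapG e (x : GU K) = gn 5 := by
        intro x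
        apply cent_QaK
        intro y hy
        have h3 : c x ⟨y, hy⟩ = ⟨y, hy⟩ := by
          rw [(MonoidHom.mem_ker).1 x.2]
          rfl
        have h4 : (x : GU K) * y * (x : GU K)⁻¹ = y := congrArg Subtype.val h3
        rwa [mul_inv_eq_iff_eq_mul] at h4
      intro x y hxy
      have h3 : (mapG e (x : GU K) = 1 ↔ mapG e (y : GU K) = 1) := by
        simpa using hxy
      apply Subtype.ext
      apply (mapG e).injective
      rcases h2 x with hx | hx
      · rw [hx, h3.1 hx]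
      · rcases h2 y with hy | hy
        · rw [hy, h3.2 hy]
        · rw [hx, hy]
    have h2 := Nat.card_le_card_of_injective _ h1
    rwa [Nat.card_eq_fintype_card (α := Bool), Fintype.card_bool] at h2
  have h32 : 32 ∣ Nat.card c.range := by
    have h1 : Nat.card c.range * Nat.card c.ker = 64 := by
      rw [mul_comm, ← card_GU e, ← c.ker.card_mul_index, Subgroup.index_ker]
    have h2 : 0 < Nat.card c.ker := Nat.card_pos
    have h3 : Nat.card c.ker = 1 ∨ Nat.card c.ker = 2 := by omega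
    rcases h3 with h3 | h3
    · rw [h3] at h1
      omega
    · rw [h3] at h1
      omega
  have h1 : 32 ∣ Nat.card A := h32.trans (Subgroup.card_dvd_of_le hcr)
  have h2 : 3 ∣ Nat.card A := by
    have h4 := orderOf_dvd_natCard (⟨γ, hγ⟩ : A)
    rwa [Subgroup.orderOf_mk, h3] at h4
  exact (by norm_num : Nat.Coprime 32 3).mul_dvd_of_dvd_of_dvd h1 h2

end main

/-- **The fusion system of `M₁₂`.** -/
theorem stRM12 : StRM12.{u} := by
  intro K _ _ h
  have := h.fin
  obtain ⟨e⟩ := exists_equiv h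
  have hinj := ps_injective e
  obtain ⟨F, hsat, hreal, -, haut⟩ := H815.P4.exists_pull (p := 2) (ps e) hinj (isPGroup_GU e) (index_ps e)
  obtain ⟨γt, hγt⟩ := exists_aut hinj (Qa K) t (t_normK e)
  obtain ⟨γs, hγs⟩ := exists_aut hinj (Qb K) s (s_normK e)
  have htF : γt ∈ F.autGroup (Qa K) := (haut _ _).2 ⟨t, hγt⟩
  have hsF : γs ∈ F.autGroup (Qb K) := (haut _ _).2 ⟨s, hγs⟩
  have hfix : ∀ g : Qa K, γt g = g → (g : GU K) ∈ Z1 K := by
    intro g hg
    have h1 := hγt g
    rw [hg] at h1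
    have h2 := t_fix ((mem_Qa e _).1 g.2) h1
    have h3 : (g : GU K).a = 0 := g.2
    have h4 : e (g : GU K).b = 0 ∧ e (g : GU K).c = 0 ∧ e (g : GU K).d = 0 ∧ e (g : GU K).e = 0 := h2
    simp only [map_zero_iff] at h4
    exact ⟨h3, h4⟩
  have hord : orderOf γt = 3 := by
    apply orderOf_eq_prime
    · refine MulEquiv.ext fun x => Subtype.ext (hinj ?_)
      have h1 : (γt ^ 3 : MulAut (Qa K)) x = γt (γt (γt x)) := rfl
      rw [h1, hγt, hγt, hγt]
      have h2 : t * (t * (t * ps e x * t⁻¹) * t⁻¹) * t⁻¹ = t ^ 3 * ps e x * (t ^ 3)⁻¹ := by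
        simp only [pow_succ, pow_zero, one_mul, mul_inv_rev, mul_assoc]
      rw [h2, t_three, one_mul, inv_one, mul_one]
      rfl
    · intro h1
      have h2 := hfix ⟨(mapG e).symm (gn 4), (mem_Qa e _).2 (by rw [lift]; exact gn4_a.1)⟩ (by rw [h1]; rfl)
      obtain ⟨-, -, -, -, h3⟩ := h2
      have h4 : e.symm 1 = 0 := h3
      rw [map_one] at h4
      exact one_ne_zero h4
  -- not normalising
  have hnt : ¬ NormAut (⊤ : Subgroup (GU K)) γt := by
    refine not_normAut hγt ((mapG e).symm (gn 0)) (fun x hx => (normal_Qa (K := K)).conj_mem x hx _) fun h => ?_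
    obtain ⟨q, hq, hne⟩ := t_not (mapG e h)
    refine ⟨(mapG e).symm q, (mem_Qa e _).2 (by rw [lift]; exact hq), ?_⟩
    rw [ps_apply, ps_apply, ps_apply, lift, lift]
    exact hne
  have hns : ¬ NormAut (⊤ : Subgroup (GU K)) γs := by
    refine not_normAut hγs ((mapG e).symm (gn 1)) (fun x hx => (normal_Qb (K := K)).conj_mem x hx _) fun h => ?_
    obtain ⟨q, hq, hne⟩ := s_not (mapG e h)
    refine ⟨(mapG e).symm q, (mem_Qb e _).2 (by rw [lift]; exact hq), ?_⟩
    rw [ps_apply, ps_apply, ps_apply, lift, lift]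
    exact hne
  refine ⟨F, hsat, hreal, ?_, ?_, ⟨γt, htF, hord, hfix⟩, fun hall => hns (hall _ hsF)⟩
  · -- the core
    by_contra hcore
    have hN : F.IsNormal F.core := H759.isNormal_core
    have hsc : F.StronglyClosed F.core := H759.IsNormal.stronglyClosed hN
    -- invariance
    have hinvA : ∀ (Q : Subgroup (GU K)) (γ : MulAut Q), γ ∈ F.autGroup Q → ∀ x : Q, (x : GU K) ∈ F.core →
        ((γ x : Q) : GU K) ∈ F.core := by
      intro Q γ hγ x hx
      have h1 := (H802.mem_autGroup_iff F le_top γ).1 hγ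
      have h2 := H802.restrict_mem h1 (inf_le_left : Q ⊓ F.core ≤ Q)
      exact hsc.2 _ inf_le_right _ h2 ⟨x, x.2, hx⟩
    have hnorm : F.core.Normal := by
      refine ⟨fun x hx g => ?_⟩
      have h1 := F.conj_mem (P := F.core) (g := g) le_top trivial
      exact hsc.2 _ le_rfl _ h1 ⟨x, hx⟩
    -- `x₆`
    obtain ⟨b, hb, hb1, hbc⟩ := H777.PGrp.inf_center_ne_bot (isPGroup_GU e) hcore hnorm
    have hb6 : mapG e b = gn 5 := by
      rcases cent_QaK e b (fun y _ => (hbc y).symm) with h1 | h1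
      · exact absurd ((mapG e).injective (h1.trans (map_one _).symm)) hb1
      · exact h1
    -- `Q_a` contains the core
    have hle : ∀ x ∈ F.core, x ∈ Qa K := by
      by_contra hcon
      push Not at hcon
      obtain ⟨q, hq, hqa⟩ := hcon
      apply hnt
      refine normAut_of_normal hN ?_ htF
      rw [eq_top_iff]
      intro g _
      by_cases hg : g ∈ Qa K
      · exact (le_sup_left : Qa K ≤ Qa K ⊔ F.core) hg
      · have h1 : g * q⁻¹ ∈ Qa K := by
          rw [mem_Qa e] at hg hqa ⊢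
          rw [map_mul, map_inv]
          show (mapG e g).a + -(mapG e q).a = 0
          exact h01 _ _ hg hqa
        have h2 : g = g * q⁻¹ * q := by group
        rw [h2]
        exact Subgroup.mul_mem _ ((le_sup_left : Qa K ≤ Qa K ⊔ F.core) h1)
          ((le_sup_right : F.core ≤ Qa K ⊔ F.core) hq)
    -- the walk
    have step : ∀ (Q : Subgroup (GU K)) (γ : MulAut Q) (g : G12), γ ∈ F.autGroup Q →
        (∀ x : Q, ps e ((γ x : Q) : GU K) = g * ps e x * g⁻¹) → ∀ x y : U2, (mapG e).symm x ∈ Q →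
        phi y = g * phi x * g⁻¹ → (mapG e).symm x ∈ F.core → (mapG e).symm y ∈ F.core := by
      intro Q γ g hγ hγg x y hxQ hxy hx
      have h1 := hinvA Q γ hγ ⟨_, hxQ⟩ hx
      have h2 := hγg ⟨_, hxQ⟩
      rw [ps_apply, ps_apply, lift, ← hxy] at h2
      have h3 := phi_injective h2
      rw [← h3, MulEquiv.symm_apply_apply]
      exact h1
    have h6 : (mapG e).symm (gn 5) ∈ F.core := by
      rw [← hb6, MulEquiv.symm_apply_apply]
      exact hb
    have h5 := step _ γs s hsF hγs (gn 5) (gn 4) ((mem_Qb e _).2 (by rw [lift]; exact gn5_a.2)) walk1 h6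
    have h46 := step _ γt t htF hγt (gn 4) (gn 3 * gn 5) ((mem_Qa e _).2 (by rw [lift]; exact gn4_a.1)) walk2 h5
    obtain ⟨y, hya, -, hy⟩ := walk3
    have h7 := step _ γs s hsF hγs (gn 3 * gn 5) y ((mem_Qb e _).2 (by rw [lift]; exact gn35_a.2)) hy h46
    have h8 := (mem_Qa e _).1 (hle _ h7)
    rw [lift] at h8
    exact hya h8
  · have h1 := card_le e (F.autGroup (Qa K)) (fun γ hγ => (haut _ _).1 hγ)
    have h2 := dvd_card e (F.autGroup (Qa K)) (fun γ hγ => by
      obtain ⟨g, -, hg⟩ := (H802.mem_autInducedBy_iff _ _ _).1 hγ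
      refine (haut _ _).2 ⟨ps e g, fun x => ?_⟩
      rw [hg, map_mul, map_mul, map_inv]) htF hord
    have h3 : 0 < Nat.card (F.autGroup (Qa K)) := Nat.card_pos
    have h4 := Nat.le_of_dvd h3 h2
    omega

end Cfsg.Agent.H675.GT
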